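import Groth.Agent.H23.Frame
import Groth.Agent.EtMVLib.ExtTools
import Mathlib.RingTheory.Flat.Basic
import Mathlib.Algebra.Category.ModuleCat.Presheaf.EpiMono
import Mathlib.LinearAlgebra.TensorProduct.Tower
import Mathlib.Algebra.Category.ModuleCat.Presheaf.Sheafification
import Mathlib.CategoryTheory.Sites.LocallyBijective

/-!
# Extension of scalars to a finite locally free sheaf of algebras
-/

set_option autoImplicit false
set_option linter.style.haveILetI false
set_option linter.unusedSectionVars false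
set_option backward.isDefEq.respectTransparency false
set_option backward.isDefEq.respectTransparency.types false
set_option maxHeartbeats 1000000

universe u

open CategoryTheory CategoryTheory.Limits AlgebraicGeometry TopologicalSpace Opposite
open scoped TensorProduct

noncomputable section

namespace Groth.Agent.OrdSurf.Ext

variable {X : Scheme.{u}} {A : Sheaf (Opens.grothendieckTopology X) RingCat.{u}} (φ : X.ringCatSheaf ⟶ A)
  (hcen : ∀ (U : (Opens X)ᵒᵖ) (s : X.ringCatSheaf.obj.obj U) (a : A.obj.obj U),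
    φ.hom.app U s * a = a * φ.hom.app U s)

/-- The underlying module over the structure sheaf. -/
abbrev res (M : SheafOfModules.{u} A) : X.Modules := (SheafOfModules.restrictScalars φ).obj M

/-- The structure map on sections. -/
abbrev str (W : (Opens X)ᵒᵖ) : Γ(X, W.unop) →+* A.obj.obj W := (φ.hom.app W).hom

/-- The algebra structure on sections. -/
@[reducible] def alg (W : (Opens X)ᵒᵖ) : Algebra Γ(X, W.unop) (A.obj.obj W) :=
  (str φ W).toAlgebra' fun s a => hcen W s a

variable {M N : X.Modules}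

/-- The sections of the extension of scalars. -/
def Obj (M : X.Modules) (W : (Opens X)ᵒᵖ) : ModuleCat.{u} (A.obj.obj W) :=
  letI := alg φ hcen W
  ModuleCat.of (A.obj.obj W) ((A.obj.obj W : Type u) ⊗[Γ(X, W.unop)] (Γ(M, W.unop) : Type u))

/-- An elementary tensor. -/
def tm {M : X.Modules} {W : (Opens X)ᵒᵖ} (a : A.obj.obj W) (m : Γ(M, W.unop)) : Obj φ hcen M W :=
  letI := alg φ hcen W
  show (A.obj.obj W : Type u) ⊗[Γ(X, W.unop)] (Γ(M, W.unop) : Type u) from a ⊗ₜ[Γ(X, W.unop)] m

theorem smul_tm {W : (Opens X)ᵒᵖ} (a b : A.obj.obj W) (m : Γ(M, W.unop)) :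
    a • tm φ hcen b m = tm φ hcen (a * b) m := rfl

theorem tm_smul {W : (Opens X)ᵒᵖ} (r : Γ(X, W.unop)) (a : A.obj.obj W) (m : Γ(M, W.unop)) :
    tm φ hcen (str φ W r * a) m = tm φ hcen a (r • m) :=
  letI := alg φ hcen W
  TensorProduct.smul_tmul r a m

theorem add_tm {W : (Opens X)ᵒᵖ} (a b : A.obj.obj W) (m : Γ(M, W.unop)) :
    tm φ hcen (a + b) m = tm φ hcen a m + tm φ hcen b m :=
  letI := alg φ hcen W
  TensorProduct.add_tmul a b m

theorem tm_add {W : (Opens X)ᵒᵖ} (a : A.obj.obj W) (m m' : Γ(M, W.unop)) :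
    tm φ hcen a (m + m') = tm φ hcen a m + tm φ hcen a m' :=
  letI := alg φ hcen W
  TensorProduct.tmul_add a m m'

theorem induction {W : (Opens X)ᵒᵖ} {P : Obj φ hcen M W → Prop} (x : Obj φ hcen M W) (h0 : P 0)
    (ht : ∀ a m, P (tm φ hcen a m)) (ha : ∀ x y, P x → P y → P (x + y)) : P x :=
  letI := alg φ hcen W
  TensorProduct.induction_on
    (motive := fun z : (A.obj.obj W : Type u) ⊗[Γ(X, W.unop)] (Γ(M, W.unop) : Type u) => P z) x h0 ht ha

/-- Additive maps out of the extension of scalars. -/
def lift {W : (Opens X)ᵒᵖ} {G : Type u} [AddCommGroup G] (f : A.obj.obj W →+ Γ(M, W.unop) →+ G)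
    (hf : ∀ (r : Γ(X, W.unop)) (a : A.obj.obj W) (m : Γ(M, W.unop)), f (str φ W r * a) m = f a (r • m)) :
    Obj φ hcen M W →+ G :=
  letI := alg φ hcen W
  TensorProduct.liftAddHom (R := Γ(X, W.unop)) f hf

theorem lift_tm {W : (Opens X)ᵒᵖ} {G : Type u} [AddCommGroup G] (f : A.obj.obj W →+ Γ(M, W.unop) →+ G)
    (hf : ∀ (r : Γ(X, W.unop)) (a : A.obj.obj W) (m : Γ(M, W.unop)), f (str φ W r * a) m = f a (r • m))
    (a : A.obj.obj W) (m : Γ(M, W.unop)) : lift φ hcen f hf (tm φ hcen a m) = f a m :=
  letI := alg φ hcen W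
  TensorProduct.liftAddHom_tmul (R := Γ(X, W.unop)) f hf a m

theorem res_smul {V W : (Opens X)ᵒᵖ} (i : V ⟶ W) (r : Γ(X, V.unop)) (m : Γ(M, V.unop)) :
    M.presheaf.map i (r • m) =
      (show Γ(X, W.unop) from X.presheaf.map i r) • (show Γ(M, W.unop) from M.presheaf.map i m) :=
  PresheafOfModules.map_smul M.val i r m

theorem str_res {V W : (Opens X)ᵒᵖ} (i : V ⟶ W) (r : Γ(X, V.unop)) :
    A.obj.map i (str φ V r) = str φ W (X.presheaf.map i r) :=
  (ConcreteCategory.congr_hom (φ.hom.naturality i) r).symm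

/-- Restriction. -/
def rest {V W : (Opens X)ᵒᵖ} (i : V ⟶ W) : Obj φ hcen M V →+ Obj φ hcen M W :=
  lift φ hcen
    (AddMonoidHom.mk' (fun a => AddMonoidHom.mk' (fun m => tm φ hcen (A.obj.map i a) (M.presheaf.map i m))
      (fun m m' => by rw [map_add, tm_add]))
      (fun a b => AddMonoidHom.ext fun m => by
        show tm φ hcen (A.obj.map i (a + b)) _ = tm φ hcen _ _ + tm φ hcen _ _
        rw [map_add, add_tm]))
    (fun r a m => by
      show tm φ hcen (A.obj.map i (str φ V r * a)) (M.presheaf.map i m) = tm φ hcen (A.obj.map i a) (M.presheaf.map i (r • m))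
      rw [map_mul, str_res, res_smul, tm_smul])

theorem rest_tm {V W : (Opens X)ᵒᵖ} (i : V ⟶ W) (a : A.obj.obj V) (m : Γ(M, V.unop)) :
    rest φ hcen i (tm φ hcen a m) = tm φ hcen (A.obj.map i a) (M.presheaf.map i m) :=
  lift_tm φ hcen _ _ a m

/-- The underlying presheaf. -/
def preAb (M : X.Modules) : (Opens X)ᵒᵖ ⥤ Ab.{u} where
  obj W := AddCommGrpCat.of (Obj φ hcen M W)
  map i := AddCommGrpCat.ofHom (rest φ hcen i)
  map_id W := by
    ext x
    show rest φ hcen (𝟙 W) x = x
    refine induction φ hcen (P := fun x => rest φ hcen (𝟙 W) x = x) x (map_zero _) (fun a m => ?_)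
      fun x y hx hy => (map_add _ x y).trans (congrArg₂ (· + ·) hx hy)
    rw [rest_tm, A.obj.map_id, M.presheaf.map_id]
    rfl
  map_comp {U V W} i j := by
    ext x
    show rest φ hcen (i ≫ j) x = rest φ hcen j (rest φ hcen i x)
    refine induction φ hcen (P := fun x => rest φ hcen (i ≫ j) x = rest φ hcen j (rest φ hcen i x)) x
      (by simp) (fun a m => ?_) fun x y hx hy => by simp only [map_add, hx, hy]
    rw [rest_tm, rest_tm, rest_tm, A.obj.map_comp, M.presheaf.map_comp]
    rfl

instance (M : X.Modules) (W : (Opens X)ᵒᵖ) : Module (A.obj.obj W) ((preAb φ hcen M).obj W) :=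
  inferInstanceAs (Module (A.obj.obj W) (Obj φ hcen M W))

/-- Extension of scalars as a presheaf of modules. -/
def pre (M : X.Modules) : PresheafOfModules.{u} A.obj :=
  PresheafOfModules.ofPresheaf (preAb φ hcen M) fun {V W} i a x => by
    show rest φ hcen i (a • (x : Obj φ hcen M V)) = A.obj.map i a • rest φ hcen i x
    refine induction φ hcen (P := fun x => rest φ hcen i (a • x) = A.obj.map i a • rest φ hcen i x) x
      (by simp) (fun b m => ?_) fun x y hx hy => by simp only [smul_add, map_add, hx, hy]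
    rw [smul_tm, rest_tm, rest_tm, smul_tm, map_mul]

/-- The balanced map underlying maps out of the sections. -/
def smulHom {W : (Opens X)ᵒᵖ} {G : ModuleCat.{u} (A.obj.obj W)} (g : Γ(M, W.unop) →+ G) :
    A.obj.obj W →+ Γ(M, W.unop) →+ G :=
  AddMonoidHom.mk' (fun a => AddMonoidHom.mk' (fun m => a • g m) (fun m m' => by rw [map_add, smul_add]))
    (fun a b => AddMonoidHom.ext fun m => add_smul a b (g m))

include hcen in
theorem smulHom_balanced {W : (Opens X)ᵒᵖ} {G : ModuleCat.{u} (A.obj.obj W)} (g : Γ(M, W.unop) →+ G)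
    (hg : ∀ r m, g (r • m) = str φ W r • g m) (r : Γ(X, W.unop)) (a : A.obj.obj W) (m : Γ(M, W.unop)) :
    smulHom g (str φ W r * a) m = smulHom g a (r • m) := by
  show (str φ W r * a) • g m = a • g (r • m)
  rw [hg, ← mul_smul]
  exact congrArg (· • g m) (hcen W r a)

/-- Maps out of the sections. -/
def descLin {W : (Opens X)ᵒᵖ} {G : ModuleCat.{u} (A.obj.obj W)} (g : Γ(M, W.unop) →+ G)
    (hg : ∀ r m, g (r • m) = str φ W r • g m) : Obj φ hcen M W ⟶ G :=
  ModuleCat.ofHom
    { toFun := lift φ hcen (smulHom g) (smulHom_balanced φ hcen g hg)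
      map_add' := map_add _
      map_smul' := fun c x => by
        rw [RingHom.id_apply]
        refine induction φ hcen (P := fun x => lift φ hcen (smulHom g) (smulHom_balanced φ hcen g hg) (c • x) =
          c • lift φ hcen (smulHom g) (smulHom_balanced φ hcen g hg) x) x ?_ (fun b m => ?_) fun x y hx hy => ?_
        · rw [smul_zero, map_zero, smul_zero]
        · rw [smul_tm, lift_tm, lift_tm]
          exact mul_smul c b (g m)
        · rw [smul_add, map_add, map_add, smul_add, hx, hy] }

theorem descLin_tm {W : (Opens X)ᵒᵖ} {G : ModuleCat.{u} (A.obj.obj W)} (g : Γ(M, W.unop) →+ G)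
    (hg : ∀ r m, g (r • m) = str φ W r • g m) (a : A.obj.obj W) (m : Γ(M, W.unop)) :
    descLin φ hcen g hg (tm φ hcen a m) = a • g m :=
  lift_tm φ hcen (smulHom g) (smulHom_balanced φ hcen g hg) a m

/-- The sections map underlying functoriality. -/
def oneTm (f : M ⟶ N) (W : (Opens X)ᵒᵖ) : Γ(M, W.unop) →+ Obj φ hcen N W :=
  AddMonoidHom.mk' (fun m => tm φ hcen 1 (f.app W.unop m)) (fun m m' => by rw [map_add, tm_add])

theorem oneTm_smul (f : M ⟶ N) (W : (Opens X)ᵒᵖ) (r : Γ(X, W.unop)) (m : Γ(M, W.unop)) :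
    oneTm φ hcen f W (r • m) = str φ W r • oneTm φ hcen f W m := by
  show tm φ hcen 1 (f.app W.unop (r • m)) = str φ W r • tm φ hcen 1 (f.app W.unop m)
  rw [Scheme.Modules.Hom.app_smul, smul_tm, tm_smul]

/-- Functoriality. -/
def preMap (f : M ⟶ N) : pre φ hcen M ⟶ pre φ hcen N where
  app W := descLin φ hcen (oneTm φ hcen f W) (oneTm_smul φ hcen f W)
  naturality {V W} i := ModuleCat.hom_ext (LinearMap.ext fun x => by
    show descLin φ hcen (oneTm φ hcen f W) (oneTm_smul φ hcen f W) (rest φ hcen i x) =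
      rest φ hcen i (descLin φ hcen (oneTm φ hcen f V) (oneTm_smul φ hcen f V) x)
    refine induction φ hcen (P := fun x => descLin φ hcen (oneTm φ hcen f W) (oneTm_smul φ hcen f W) (rest φ hcen i x) =
      rest φ hcen i (descLin φ hcen (oneTm φ hcen f V) (oneTm_smul φ hcen f V) x)) x ?_ (fun b m => ?_)
      fun x y hx hy => by simp only [map_add, hx, hy]
    · simp only [map_zero]
    rw [rest_tm, descLin_tm, descLin_tm]
    show A.obj.map i b • tm φ hcen 1 (f.app W.unop (M.presheaf.map i m)) =
      rest φ hcen i (b • tm φ hcen 1 (f.app V.unop m))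
    rw [smul_tm, smul_tm, rest_tm, mul_one, mul_one]
    exact congrArg (tm φ hcen (A.obj.map i b)) (ConcreteCategory.congr_hom (f.mapPresheaf.naturality i) m))

theorem preMap_tm (f : M ⟶ N) {W : (Opens X)ᵒᵖ} (a : A.obj.obj W) (m : Γ(M, W.unop)) :
    (preMap φ hcen f).app W (tm φ hcen a m) = tm φ hcen a (f.app W.unop m) := by
  refine (descLin_tm φ hcen (oneTm φ hcen f W) (oneTm_smul φ hcen f W) a m).trans ?_
  show a • tm φ hcen 1 (f.app W.unop m) = _
  rw [smul_tm, mul_one]

/-- The value of a map to the underlying module of a module over the algebra. -/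
def toA {I : SheafOfModules.{u} A} {M : X.Modules} (g : M ⟶ res φ I) (W : (Opens X)ᵒᵖ) :
    Γ(M, W.unop) →+ I.val.obj W :=
  AddMonoidHom.mk' (fun m => (g.app W.unop m : I.val.obj W)) (fun m m' => map_add (g.app W.unop).hom m m')

theorem toA_smul {I : SheafOfModules.{u} A} {M : X.Modules} (g : M ⟶ res φ I) (W : (Opens X)ᵒᵖ)
    (r : Γ(X, W.unop)) (m : Γ(M, W.unop)) : toA φ g W (r • m) = str φ W r • toA φ g W m :=
  Scheme.Modules.Hom.app_smul g r m

/-- The adjoint map. -/
def desc {I : SheafOfModules.{u} A} (g : M ⟶ res φ I) : pre φ hcen M ⟶ I.val where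
  app W := descLin φ hcen (toA φ g W) (toA_smul φ g W)
  naturality {V W} i := ModuleCat.hom_ext (LinearMap.ext fun x => by
    show descLin φ hcen (toA φ g W) (toA_smul φ g W) (rest φ hcen i x) =
      I.val.map i (descLin φ hcen (toA φ g V) (toA_smul φ g V) x)
    refine induction φ hcen (P := fun x => descLin φ hcen (toA φ g W) (toA_smul φ g W) (rest φ hcen i x) =
      I.val.map i (descLin φ hcen (toA φ g V) (toA_smul φ g V) x)) x (by simp) (fun b m => ?_)
      fun x y hx hy => by simp only [map_add, hx, hy]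
    rw [rest_tm, descLin_tm, descLin_tm]
    refine Eq.trans ?_ (PresheafOfModules.map_smul I.val i b _).symm
    exact congrArg (A.obj.map i b • ·) (ConcreteCategory.congr_hom (g.mapPresheaf.naturality i) m))

theorem desc_tm {I : SheafOfModules.{u} A} (g : M ⟶ res φ I) {W : (Opens X)ᵒᵖ} (a : A.obj.obj W)
    (m : Γ(M, W.unop)) : (desc φ hcen g).app W (tm φ hcen a m) = a • toA φ g W m :=
  descLin_tm φ hcen (toA φ g W) (toA_smul φ g W) a m

/-- The map adjoint to a map out of the extension of scalars. -/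
def undesc {I : SheafOfModules.{u} A} (k : pre φ hcen M ⟶ I.val) : M ⟶ res φ I :=
  ⟨PresheafOfModules.homMk
    { app := fun W => AddCommGrpCat.ofHom
        (AddMonoidHom.mk' (fun m => k.app W (tm φ hcen 1 m)) (fun m m' => by rw [tm_add]; exact map_add _ _ _))
      naturality := fun {V W} i => by
        ext m
        show k.app W (tm φ hcen 1 (M.presheaf.map i m)) = I.val.map i (k.app V (tm φ hcen 1 m))
        rw [← PresheafOfModules.naturality_apply k i]
        refine congrArg (k.app W) ?_
        refine Eq.trans ?_ (rest_tm φ hcen i 1 m).symm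
        rw [map_one] }
    (fun W r m => by
      show k.app W (tm φ hcen 1 (r • m : Γ(M, W.unop))) = str φ W r • k.app W (tm φ hcen 1 m)
      rw [← tm_smul, ← smul_tm]
      exact (k.app W).hom.map_smul _ _)⟩

variable (hA : FlatMod.IsFinLocFree (X := X) ((SheafOfModules.restrictScalars φ).obj (SheafOfModules.unit A)))

include hA in
theorem exists_free_nhd {W : X.Opens} {z : X} (hz : z ∈ W) :
    ∃ V : X.Opens, V ≤ W ∧ z ∈ V ∧ (letI := alg φ hcen (op V); Module.Flat Γ(X, V) (A.obj.obj (op V))) := by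
  obtain ⟨U, n, hzU, ⟨e⟩⟩ := hA z
  obtain ⟨s, hs⟩ := H23.Frame.exists_frame e
  refine ⟨W ⊓ U, inf_le_left, ⟨hz, hzU⟩, ?_⟩
  letI := alg φ hcen (op (W ⊓ U))
  let F : (Fin n → Γ(X, W ⊓ U)) →ₗ[Γ(X, W ⊓ U)] A.obj.obj (op (W ⊓ U)) :=
    { toFun := fun c => H23.Frame.comb _ s (W ⊓ U) inf_le_right c
      map_add' := fun c d => by
        show H23.Frame.comb _ s _ _ (c + d) =
          (H23.Frame.comb _ s _ _ c + H23.Frame.comb _ s _ _ d : Γ(res φ (SheafOfModules.unit A), W ⊓ U))
        simp only [H23.Frame.comb, Pi.add_apply, add_smul, Finset.sum_add_distrib]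
      map_smul' := fun r c => by
        rw [RingHom.id_apply]
        show H23.Frame.comb _ s _ _ (r • c) = (r • H23.Frame.comb _ s _ _ c : Γ(res φ (SheafOfModules.unit A), W ⊓ U))
        simp only [H23.Frame.comb, Pi.smul_apply, smul_eq_mul, mul_smul, Finset.smul_sum] }
  exact Module.Flat.of_linearEquiv (LinearEquiv.ofBijective F (hs (W ⊓ U) inf_le_right)).symm

include hA in
theorem isLocallyInjective_preMap (f : M ⟶ N) [Mono f] :
    Presheaf.IsLocallyInjective (Opens.grothendieckTopology X)
      ((PresheafOfModules.toPresheaf A.obj).map (preMap φ hcen f)) where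
  equalizerSieve_mem {W} x y h := fun z hz => by
    obtain ⟨V, hVW, hzV, hflat⟩ := exists_free_nhd φ hcen hA (W := W.unop) hz
    refine ⟨V, homOfLE hVW, ?_, hzV⟩
    letI := alg φ hcen (op V)
    haveI := hflat
    let fl : Γ(M, V) →ₗ[Γ(X, V)] Γ(N, V) :=
      { toFun := fun m => f.app V m
        map_add' := map_add _
        map_smul' := fun r m => Scheme.Modules.Hom.app_smul f r m }
    have hinj : Function.Injective fl := by
      haveI : Mono ((SheafOfModules.forget X.ringCatSheaf).map f) := inferInstance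
      exact fun a b hab => PresheafOfModules.injective_of_mono ((SheafOfModules.forget X.ringCatSheaf).map f) (op V) hab
    have key : ∀ w : Obj φ hcen M (op V), (preMap φ hcen f).app (op V) w =
        (fl.lTensor (A.obj.obj (op V)) w : (A.obj.obj (op V) : Type u) ⊗[Γ(X, V)] (Γ(N, V) : Type u)) := fun w => by
      refine induction φ hcen (P := fun w => (preMap φ hcen f).app (op V) w =
        (fl.lTensor (A.obj.obj (op V)) w : (A.obj.obj (op V) : Type u) ⊗[Γ(X, V)] (Γ(N, V) : Type u))) w ?_ (fun a m => ?_)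
        fun x y hx hy => ?_
      · exact (map_zero ((preMap φ hcen f).app (op V)).hom).trans (map_zero _).symm
      swap
      · exact (map_add ((preMap φ hcen f).app (op V)).hom x y).trans
          ((congrArg₂ (· + ·) hx hy).trans (map_add _ _ _).symm)
      exact preMap_tm φ hcen f a m
    show rest φ hcen (homOfLE hVW).op x = rest φ hcen (homOfLE hVW).op y
    apply Module.Flat.lTensor_preserves_injective_linearMap (M := (A.obj.obj (op V) : Type u)) fl hinj
    rw [← key, ← key]
    refine (PresheafOfModules.naturality_apply (preMap φ hcen f) (homOfLE hVW).op x).trans ?_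
    refine Eq.trans ?_ (PresheafOfModules.naturality_apply (preMap φ hcen f) (homOfLE hVW).op y).symm
    exact congrArg _ h

include hcen hA in
/-- Restriction of scalars to the structure sheaf preserves injectives. -/
theorem injective_res (I : SheafOfModules.{u} A) [Injective I] : Injective (res φ I) := by
  refine ⟨fun {P Q} g f hf => ?_⟩
  let sh := PresheafOfModules.sheafification (𝟙 A.obj)
  let adj := PresheafOfModules.sheafificationAdjunction (𝟙 A.obj)
  haveI : Mono (sh.map (preMap φ hcen f)) := by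
    haveI := isLocallyInjective_preMap φ hcen hA f
    haveI : Mono ((presheafToSheaf (Opens.grothendieckTopology X) AddCommGrpCat.{u}).map
        ((PresheafOfModules.toPresheaf A.obj).map (preMap φ hcen f))) := by
      haveI : Sheaf.IsLocallyInjective ((presheafToSheaf (Opens.grothendieckTopology X) AddCommGrpCat.{u}).map
        ((PresheafOfModules.toPresheaf A.obj).map (preMap φ hcen f))) :=
          (Presheaf.isLocallyInjective_presheafToSheaf_map_iff _ _).2 inferInstance
      exact Sheaf.mono_of_isLocallyInjective _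
    exact (SheafOfModules.toSheaf A).mono_of_mono_map
      (f := sh.map (preMap φ hcen f)) ‹_›
  let k := Injective.factorThru ((adj.homEquiv _ I).symm (desc φ hcen g)) (sh.map (preMap φ hcen f))
  let k' : pre φ hcen Q ⟶ I.val := adj.homEquiv _ I k
  have h1 : preMap φ hcen f ≫ k' = desc φ hcen g := by
    show preMap φ hcen f ≫ adj.homEquiv _ I k = _
    rw [← Adjunction.homEquiv_naturality_left, Injective.comp_factorThru, Equiv.apply_symm_apply]
  refine ⟨undesc φ hcen k', Scheme.Modules.hom_ext _ _ fun U => ?_⟩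
  ext m
  show k'.app (op U) (tm φ hcen 1 (f.app U m)) = g.app U m
  rw [← preMap_tm φ hcen f 1 m]
  refine (congrArg (fun z : pre φ hcen P ⟶ I.val => z.app (op U) (tm φ hcen 1 m)) h1).trans ?_
  exact (desc_tm φ hcen g 1 m).trans (one_smul _ _)

end Groth.Agent.OrdSurf.Ext

namespace Groth.Agent.OrdSurf

open Abelian

universe w v v' u'

/-- For adjoint functors with the right one exact and preserving injectives, Ext groups agree. -/
theorem adjExtMap_bijective_of_injective {C : Type u} [Category.{v} C] [Abelian C] [HasExt.{w} C]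
    [EnoughInjectives C] {D : Type u'} [Category.{v'} D] [Abelian D] [HasExt.{w} D] {L : D ⥤ C} {R : C ⥤ D}
    (adj : L ⊣ R) [R.Additive] [PreservesFiniteLimits R] [PreservesFiniteColimits R]
    (hR : ∀ I : C, Injective I → Injective (R.obj I)) (A : D) (B : C) (n : ℕ) :
    Function.Bijective (EtMVLib.adjExtMap adj A B n) := by
  open EtMVLib in
  induction n generalizing B with
  | zero =>
    refine ⟨fun x y hxy => ?_, fun y => ?_⟩
    · obtain ⟨f, rfl⟩ := (Ext.mk₀_bijective _ _).2 x
      obtain ⟨g, rfl⟩ := (Ext.mk₀_bijective _ _).2 y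
      rw [adjExtMap_mk₀, adjExtMap_mk₀] at hxy
      rw [(adj.homEquiv _ _).injective ((Ext.mk₀_bijective _ _).1 hxy)]
    · obtain ⟨g, rfl⟩ := (Ext.mk₀_bijective _ _).2 y
      exact ⟨Ext.mk₀ ((adj.homEquiv _ _).symm g), by rw [adjExtMap_mk₀, Equiv.apply_symm_apply]⟩
  | succ n ih =>
    let hS := injSES_shortExact B
    have : Injective (injSES B).X₂ := inferInstanceAs (Injective (Injective.under B))
    have : Injective ((injSES B).map R).X₂ := hR _ (inferInstanceAs (Injective (injSES B).X₂))
    refine ⟨(injective_iff_map_eq_zero _).2 fun α hα => ?_, fun β => ?_⟩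
    · obtain ⟨α', rfl⟩ := exists_eq_comp_extClass α
      rw [adjExtMap_comp, Ext.mapExactFunctor_extClass] at hα
      obtain ⟨γ, hγ⟩ := Ext.covariant_sequence_exact₃ _ (hS.map_of_exact R) _ rfl hα
      obtain ⟨γ', rfl⟩ := (ih _).2 γ
      have : γ'.comp (Ext.mk₀ (injSES B).g) (add_zero n) = α' := (ih _).1 (by
        rw [adjExtMap_comp, Ext.mapExactFunctor_mk₀]
        exact hγ)
      rw [← this, Ext.comp_assoc_of_second_deg_zero, hS.comp_extClass]
      exact Ext.comp_zero _ _ _ _ rfl
    · obtain ⟨β', hβ⟩ := Ext.covariant_sequence_exact₁ A (hS.map_of_exact R) β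
        (Ext.eq_zero_of_injective _) rfl
      obtain ⟨α', rfl⟩ := (ih _).2 β'
      refine ⟨α'.comp hS.extClass rfl, ?_⟩
      rw [adjExtMap_comp, Ext.mapExactFunctor_extClass]
      exact hβ

end Groth.Agent.OrdSurf
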