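import Groth.Prelude.Def_TorSh
import Groth.Agent.QCoh.LocFree
import Groth.Agent.Lib.CurveDeg
import Groth.Agent.Lib.CurveBundle
import Groth.Agent.ZClosLib.Basic
import Mathlib.Algebra.Category.ModuleCat.Stalk
import Mathlib.RingTheory.LocalRing.Module

/-!
# Stalks of modules over a sheaf of algebras, over the structure sheaf
-/

set_option autoImplicit false
set_option linter.style.haveILetI false
set_option linter.unusedSectionVars false
set_option backward.isDefEq.respectTransparency false
set_option backward.isDefEq.respectTransparency.types false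
set_option maxHeartbeats 1000000

universe u

open CategoryTheory CategoryTheory.Limits AlgebraicGeometry TopologicalSpace Opposite

noncomputable section

namespace Groth.Agent.OrdSurf

variable {X : Scheme.{u}} {A : Sheaf (Opens.grothendieckTopology X) RingCat.{u}} (φ : X.ringCatSheaf ⟶ A)

/-- The stalk of the algebra. -/
abbrev algStalk (A : Sheaf (Opens.grothendieckTopology X) RingCat.{u}) (x : X) : Type u :=
  (TopCat.Presheaf.stalk (C := RingCat.{u}) (X := X.carrier) A.obj x :)

/-- The stalk of a module over the algebra. -/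
abbrev modStalk (M : SheafOfModules.{u} A) (x : X) : Type u :=
  (TopCat.Presheaf.stalk (C := Ab.{u}) (X := X.carrier) M.val.presheaf x :)

/-- The underlying module over the structure sheaf. -/
abbrev resM (M : SheafOfModules.{u} A) : X.Modules := (SheafOfModules.restrictScalars φ).obj M

/-- The unit section. -/
def oneU (A : Sheaf (Opens.grothendieckTopology X) RingCat.{u}) (W : X.Opens) :
    (SheafOfModules.unit A).val.presheaf.obj (op W) := (1 : A.obj.obj (op W))

theorem germ_oneU (x : X) {W : X.Opens} (hW : x ∈ W) :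
    TopCat.Presheaf.germ (SheafOfModules.unit A).val.presheaf W x hW (oneU A W) =
      TopCat.Presheaf.germ (SheafOfModules.unit A).val.presheaf ⊤ x trivial (oneU A ⊤) := by
  refine Eq.trans (congrArg _ ?_) (TopCat.Presheaf.germ_res_apply (SheafOfModules.unit A).val.presheaf
    (homOfLE (le_top : W ≤ ⊤)) x hW (oneU A ⊤))
  exact (map_one (A.obj.map (homOfLE (le_top : W ≤ ⊤)).op).hom).symm

theorem germ_smul_oneU (x : X) {W : X.Opens} (hW : x ∈ W) (r : A.obj.obj (op W)) :
    (TopCat.Presheaf.germ A.obj W x hW r) •
        (TopCat.Presheaf.germ (SheafOfModules.unit A).val.presheaf ⊤ x trivial (oneU A ⊤)) =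
      TopCat.Presheaf.germ (SheafOfModules.unit A).val.presheaf W x hW
        (r : (SheafOfModules.unit A).val.presheaf.obj (op W)) := by
  rw [← germ_oneU x hW]
  refine (PresheafOfModules.germ_ringCat_smul (SheafOfModules.unit A).val x W hW r
    (1 : A.obj.obj (op W))).symm.trans ?_
  exact congrArg _ (mul_one r)

/-- The structure map on stalks. -/
def stalkHom (x : X) : X.presheaf.stalk x →+* algStalk A x :=
  ((preservesColimitIso (forget₂ CommRingCat.{u} RingCat.{u}) ((OpenNhds.inclusion x).op ⋙ X.presheaf)).hom ≫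
    (TopCat.Presheaf.stalkFunctor RingCat.{u} x).map φ.hom).hom

theorem stalkHom_germ (x : X) {U : X.Opens} (hx : x ∈ U) (r : Γ(X, U)) :
    stalkHom φ x (X.presheaf.germ U x hx r) =
      TopCat.Presheaf.germ A.obj U x hx (φ.hom.app (op U) r) := by
  have h := ι_preservesColimitIso_hom (forget₂ CommRingCat.{u} RingCat.{u})
    ((OpenNhds.inclusion x).op ⋙ X.presheaf) (op (⟨U, hx⟩ : OpenNhds x))
  refine Eq.trans (congrArg ((TopCat.Presheaf.stalkFunctor RingCat.{u} x).map φ.hom)
    (ConcreteCategory.congr_hom h r)) ?_
  exact TopCat.Presheaf.stalkFunctor_map_germ_apply U x hx φ.hom r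

/-- The structure map on stalks has central image. -/
theorem stalkHom_central (hcen : ∀ (U : (Opens X)ᵒᵖ) (s : X.ringCatSheaf.obj.obj U) (a : A.obj.obj U),
      φ.hom.app U s * a = a * φ.hom.app U s) (x : X) (s : X.presheaf.stalk x) (a : algStalk A x) :
    stalkHom φ x s * a = a * stalkHom φ x s := by
  obtain ⟨U, hxU, r, rfl⟩ := TopCat.Presheaf.exists_germ_eq X.presheaf s
  obtain ⟨V, hxV, m, rfl⟩ := TopCat.Presheaf.exists_germ_eq A.obj a
  have hx : x ∈ U ⊓ V := ⟨hxU, hxV⟩
  rw [← X.presheaf.germ_res_apply (homOfLE (inf_le_left : U ⊓ V ≤ U)) x hx r,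
    ← TopCat.Presheaf.germ_res_apply A.obj (homOfLE (inf_le_right : U ⊓ V ≤ V)) x hx m, stalkHom_germ φ x hx,
    ← map_mul, ← map_mul]
  exact congrArg _ (hcen _ _ _)

/-- The same element, in the stalk of the underlying module. -/
def toRes (M : SheafOfModules.{u} A) (x : X) (v : modStalk M x) : (resM φ M).presheaf.stalk x := v

theorem smul_eq (M : SheafOfModules.{u} A) (x : X) (s : X.presheaf.stalk x)
    (v : modStalk M x) :
    s • toRes φ M x v = toRes φ M x (stalkHom φ x s • v) := by
  obtain ⟨U, hxU, r, rfl⟩ := TopCat.Presheaf.exists_germ_eq X.presheaf s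
  obtain ⟨V, hxV, m, rfl⟩ := TopCat.Presheaf.exists_germ_eq M.val.presheaf v
  have hx : x ∈ U ⊓ V := ⟨hxU, hxV⟩
  rw [← X.presheaf.germ_res_apply (homOfLE (inf_le_left : U ⊓ V ≤ U)) x hx r,
    ← TopCat.Presheaf.germ_res_apply M.val.presheaf (homOfLE (inf_le_right : U ⊓ V ≤ V)) x hx m, stalkHom_germ φ x hx]
  refine Eq.trans ?_ (PresheafOfModules.germ_ringCat_smul M.val x (U ⊓ V) hx _ _)
  exact (QCoh.germ_smul' ((SheafOfModules.restrictScalars φ).obj M) hx _ _).symm

/-- A coherent module with stalks projective over a finite locally free algebra is finite locally free. -/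
theorem isFinLocFree_of_projective [IsLocallyNoetherian X]
    (hcen : ∀ (U : (Opens X)ᵒᵖ) (s : X.ringCatSheaf.obj.obj U) (a : A.obj.obj U),
      φ.hom.app U s * a = a * φ.hom.app U s)
    (hA : FlatMod.IsFinLocFree (X := X) ((SheafOfModules.restrictScalars φ).obj (SheafOfModules.unit A)))
    {M : SheafOfModules.{u} A} (hMc : Coh.IsCoh (X := X) ((SheafOfModules.restrictScalars φ).obj M))
    (hMp : ∀ x : X, Module.Projective (algStalk A x) (modStalk M x)) :
    FlatMod.IsFinLocFree (X := X) ((SheafOfModules.restrictScalars φ).obj M) := by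
  refine QCoh.isFinLocFree_iff.2 ⟨QCoh.isCoh_iff_isFP.1 hMc, fun x => ?_⟩
  haveI := CurveBundle.finite_stalk_of_coh hMc x
  haveI := QCoh.free_stalk_of_isFinLocFree hA x
  let R := X.presheaf.stalk x
  letI : Algebra R (algStalk A x) := (stalkHom φ x).toAlgebra' (stalkHom_central φ hcen x)
  let U : X.Modules := (SheafOfModules.restrictScalars φ).obj (SheafOfModules.unit A)
  let one : modStalk (SheafOfModules.unit A) x :=
    TopCat.Presheaf.germ (SheafOfModules.unit A).val.presheaf ⊤ x trivial (oneU A ⊤)
  let e : algStalk A x →ₗ[R] (resM φ (SheafOfModules.unit A)).presheaf.stalk x :=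
    { toFun := fun a => toRes φ _ x (a • one)
      map_add' := fun a b => add_smul a b one
      map_smul' := fun s a => by
        rw [RingHom.id_apply]
        refine Eq.trans ?_ (smul_eq φ (SheafOfModules.unit A) x s (a • one)).symm
        exact congrArg (toRes φ _ x) (mul_smul (stalkHom φ x s) a one) }
  have he : Function.Bijective e := by
    constructor
    · refine (injective_iff_map_eq_zero e).2 fun a ha => ?_
      obtain ⟨W, hW, r, rfl⟩ := TopCat.Presheaf.exists_germ_eq A.obj a
      have h1 := (germ_smul_oneU x hW r).symm.trans ha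
      obtain ⟨V, hxV, i, j, hV⟩ := TopCat.Presheaf.germ_eq (SheafOfModules.unit A).val.presheaf x hW hW _ 0
        (h1.trans (map_zero _).symm)
      rw [← TopCat.Presheaf.germ_res_apply A.obj i x hxV r]
      rw [map_zero] at hV
      exact (congrArg (TopCat.Presheaf.germ A.obj V x hxV) hV).trans (map_zero _)
    · intro v
      obtain ⟨W, hW, r, rfl⟩ := TopCat.Presheaf.exists_germ_eq (SheafOfModules.unit A).val.presheaf v
      exact ⟨TopCat.Presheaf.germ A.obj W x hW (r : A.obj.obj (op W)), germ_smul_oneU x hW r⟩
  haveI : Module.Free R (algStalk A x) := Module.Free.of_equiv (LinearEquiv.ofBijective e he).symm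
  letI : Module R (modStalk M x) := Module.compHom _ (stalkHom φ x)
  haveI : IsScalarTower R (algStalk A x) (modStalk M x) := IsScalarTower.of_algebraMap_smul fun _ _ => rfl
  obtain ⟨s, hs⟩ := (Module.projective_def').1 (hMp x)
  haveI : Module.Projective R (modStalk M x) :=
    Module.Projective.of_split (s.restrictScalars R)
      ((Finsupp.linearCombination (algStalk A x) id).restrictScalars R)
      (LinearMap.ext fun v => LinearMap.congr_fun hs v)
  haveI : Module.Projective R ((resM φ M).presheaf.stalk x) :=
    Module.Projective.of_equiv (R := R) (M := modStalk M x)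
      ({ toFun := toRes φ M x, invFun := fun v => v, left_inv := fun _ => rfl, right_inv := fun _ => rfl
         map_add' := fun _ _ => rfl, map_smul' := fun c v => (smul_eq φ M x c v).symm } : modStalk M x ≃ₗ[R] (resM φ M).presheaf.stalk x)
  exact Module.free_of_flat_of_isLocalRing

end Groth.Agent.OrdSurf
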