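import Groth.Agent.TorLib.Basic
import Groth.Agent.Lib.CurveHom
import Groth.Agent.Lib.CurveEnd
import Groth.Agent.CurveCohLib.Proper
import Groth.Agent.RefX.Reflexive
import Mathlib.RingTheory.SimpleModule.Basic
import Mathlib.FieldTheory.IsAlgClosed.Basic

/-!
# Torsion-free modules over a sheaf of algebras with simple generic stalk
-/

set_option autoImplicit false
set_option linter.style.haveILetI false
set_option linter.unusedSectionVars false
set_option backward.isDefEq.respectTransparency false
set_option backward.isDefEq.respectTransparency.types false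
set_option maxHeartbeats 1000000

universe u

open CategoryTheory CategoryTheory.Limits AlgebraicGeometry TopologicalSpace Opposite

noncomputable section

namespace Groth.Agent.OrdSurf

variable {X : Scheme.{u}} {A : Sheaf (Opens.grothendieckTopology X) RingCat.{u}} (φ : X.ringCatSheaf ⟶ A)

/-- The underlying module over the structure sheaf. -/
abbrev res (M : SheafOfModules.{u} A) : X.Modules := (SheafOfModules.restrictScalars φ).obj M

variable {M N : SheafOfModules.{u} A}

/-- The action of a morphism of the underlying modules on sections. -/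
def appA (f : res φ M ⟶ res φ N) (U : (Opens X)ᵒᵖ) (m : M.val.obj U) : N.val.obj U :=
  f.app U.unop m

/-- A morphism of the underlying modules is linear over the algebra. -/
def Commutes (f : res φ M ⟶ res φ N) : Prop :=
  ∀ (U : (Opens X)ᵒᵖ) (a : A.obj.obj U) (m : M.val.obj U), appA φ f U (a • m) = a • appA φ f U m

theorem commutes_map (ψ : M ⟶ N) : Commutes φ ((SheafOfModules.restrictScalars φ).map ψ) :=
  fun U a m => (ψ.val.app U).hom.map_smul a m

/-- The stalk map, linear over the stalk of the algebra. -/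
def stalkLin {f : res φ M ⟶ res φ N} (hf : Commutes φ f) (x : X) :
    (TopCat.Presheaf.stalk (C := Ab.{u}) (X := X.carrier) M.val.presheaf x :) →ₗ[
      (TopCat.Presheaf.stalk (C := RingCat.{u}) (X := X.carrier) A.obj x :)]
      (TopCat.Presheaf.stalk (C := Ab.{u}) (X := X.carrier) N.val.presheaf x :) where
  toFun v := (TopCat.Presheaf.stalkFunctor Ab.{u} x).map ((Scheme.Modules.toPresheaf X).map f) v
  map_add' := map_add _
  map_smul' a v := by
    obtain ⟨U, hxU, r, rfl⟩ := TopCat.Presheaf.exists_germ_eq A.obj a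
    obtain ⟨V, hxV, m, rfl⟩ := TopCat.Presheaf.exists_germ_eq M.val.presheaf v
    have hx : x ∈ U ⊓ V := ⟨hxU, hxV⟩
    rw [← TopCat.Presheaf.germ_res_apply A.obj (homOfLE (inf_le_left : U ⊓ V ≤ U)) x hx r,
      ← TopCat.Presheaf.germ_res_apply M.val.presheaf (homOfLE (inf_le_right : U ⊓ V ≤ V)) x hx m]
    refine Eq.trans (congrArg _ (PresheafOfModules.germ_ringCat_smul M.val x (U ⊓ V) hx _ _).symm) ?_
    refine (TopCat.Presheaf.stalkFunctor_map_germ_apply (U ⊓ V) x hx
      ((Scheme.Modules.toPresheaf X).map f) _).trans ?_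
    refine Eq.trans (congrArg _ (hf (op (U ⊓ V)) _ _)) ?_
    refine (PresheafOfModules.germ_ringCat_smul N.val x (U ⊓ V) hx _ _).trans ?_
    exact congrArg _ (TopCat.Presheaf.stalkFunctor_map_germ_apply (U ⊓ V) x hx
      ((Scheme.Modules.toPresheaf X).map f) _).symm

theorem stalkLin_germ {f : res φ M ⟶ res φ N} (hf : Commutes φ f) {U : X.Opens} {x : X} (hx : x ∈ U)
    (m : Γ(res φ M, U)) :
    stalkLin φ hf x ((res φ M).presheaf.germ U x hx m) = (res φ N).presheaf.germ U x hx (f.app U m) :=
  TopCat.Presheaf.stalkFunctor_map_germ_apply U x hx ((Scheme.Modules.toPresheaf X).map f) m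

variable [IsIntegral X]

/-- A linear morphism which is zero at the generic point is zero. -/
theorem eq_zero_of_generic {f : res φ M ⟶ res φ N} (hf : Commutes φ f) (hq : Coh.IsQCoh (res φ N))
    (ht : TorSh.IsTorsionFree (res φ N)) (h : stalkLin φ hf (genericPoint X) = 0) : f = 0 :=
  Scheme.Modules.hom_ext _ _ fun U => by
    ext m
    refine ZClosLib.section_ext (res φ N) _ _ fun y hy => ?_
    have hξ : genericPoint X ∈ U := TorLib.genericPoint_mem hy
    rw [TorLib.eq_zero_of_germ_genericPoint hq ht hξ (f.app U m)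
      (by rw [← stalkLin_germ φ hf hξ, h]; rfl), map_zero]
    exact (map_zero _).symm

/-- A linear morphism which is injective at the generic point is injective on sections. -/
theorem app_injective {f : res φ M ⟶ res φ N} (hf : Commutes φ f) (hq : Coh.IsQCoh (res φ M))
    (ht : TorSh.IsTorsionFree (res φ M)) (h : Function.Injective (stalkLin φ hf (genericPoint X))) (U : X.Opens) :
    Function.Injective (f.app U) := by
  refine (injective_iff_map_eq_zero _).2 fun m hm => ZClosLib.section_ext (res φ M) _ _ fun y hy => ?_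
  have hξ : genericPoint X ∈ U := TorLib.genericPoint_mem hy
  rw [TorLib.eq_zero_of_germ_genericPoint hq ht hξ m
    (h (by rw [stalkLin_germ, hm, map_zero, map_zero]))]

/-- A nonzero linear morphism between torsion-free modules with simple generic stalks is generically injective. -/
theorem generic_injective {f : res φ M ⟶ res φ N} (hf : Commutes φ f) (hq : Coh.IsQCoh (res φ N))
    (ht : TorSh.IsTorsionFree (res φ N))
    (hM : IsSimpleModule (TopCat.Presheaf.stalk (C := RingCat.{u}) (X := X.carrier) A.obj (genericPoint X) :)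
      (TopCat.Presheaf.stalk (C := Ab.{u}) (X := X.carrier) M.val.presheaf (genericPoint X) :))
    (h0 : f ≠ 0) : Function.Injective (stalkLin φ hf (genericPoint X)) :=
  (LinearMap.injective_or_eq_zero _).resolve_right fun h => h0 (eq_zero_of_generic φ hf hq ht h)

/-- A nonzero morphism between such modules is a monomorphism. -/
theorem mono_of_ne_zero (hMq : Coh.IsQCoh (res φ M)) (hNq : Coh.IsQCoh (res φ N))
    (hMt : TorSh.IsTorsionFree (res φ M)) (hNt : TorSh.IsTorsionFree (res φ N))
    (hM : IsSimpleModule (TopCat.Presheaf.stalk (C := RingCat.{u}) (X := X.carrier) A.obj (genericPoint X) :)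
      (TopCat.Presheaf.stalk (C := Ab.{u}) (X := X.carrier) M.val.presheaf (genericPoint X) :))
    (ψ : M ⟶ N) (hψ : ψ ≠ 0) : Mono ψ := by
  have h0 : (SheafOfModules.restrictScalars φ).map ψ ≠ 0 := fun h => hψ
    (SheafOfModules.hom_ext (PresheafOfModules.hom_ext fun U => by
      ext m
      exact congrArg (fun g : res φ M ⟶ res φ N => g.app U.unop m) h))
  have hinj := app_injective φ (commutes_map φ ψ) hMq hMt
    (generic_injective φ (commutes_map φ ψ) hNq hNt hM h0)
  refine ⟨fun {P} g g' h => SheafOfModules.hom_ext (PresheafOfModules.hom_ext fun U => ?_)⟩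
  ext m
  exact hinj U.unop (congrArg (fun g : P ⟶ N => (g.val.app U).hom m) h)

variable (k : Type u) [Field k] [IsAlgClosed k] [X.Over (Spec (CommRingCat.of k))]
  [IsProper (X ↘ Spec (CommRingCat.of k))]

/-- Endomorphisms of a coherent module form a finite dimensional space. -/
theorem isIntegral_end {E : X.Modules} (hE : Coh.IsCoh E) (f : End E) :
    ∃ p : Polynomial k, p.Monic ∧
      (letI := CurveEnd.kAlgebra (k := k) E; Polynomial.aeval f p = 0) := by
  haveI := CurveCohLib.isNoetherian_of_proper (k := k) (X := X)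
  letI := CurveEnd.kAlgebra (k := k) E
  letI := QCoh.secModule (Coh.toGlobal (X ↘ Spec (CommRingCat.of k))) (RefHull.homSh E E) ⊤
  let e : Coh.HH X (RefHull.homSh E E) 0 ≃ₗ[k] Γ(RefHull.homSh E E, ⊤) :=
    { (Sheaf.H.equiv₀ (Coh.toAb (RefHull.homSh E E)) isTerminalTop :
        Coh.HH X (RefHull.homSh E E) 0 ≃+ _) with
      map_smul' := fun a t =>
        (Sheaf.H.equiv₀_naturality isTerminalTop
          (Coh.smulAb (RefHull.homSh E E) (Coh.toGlobal (X ↘ Spec (CommRingCat.of k)) a)) t).symm }
  haveI := CurveCohLib.finite_HH (k := k) (RefX.isCoh_homSh hE hE) 0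
  haveI := Module.Finite.equiv e
  letI : Module k (End E) := Algebra.toModule
  let L : End E →ₗ[k] Γ(RefHull.homSh E E, ⊤) :=
    { toFun := fun g => RefHull.ofHom (g : E ⟶ E) ⊤
      map_add' := fun g g' => RefX.sect_ext fun y => LinearMap.ext fun v => by
        show RefHull.stalkMapₗ (g + g' : E ⟶ E) y.1 v =
          RefHull.stalkMapₗ (g : E ⟶ E) y.1 v + RefHull.stalkMapₗ (g' : E ⟶ E) y.1 v
        rw [CurveHom.stalkMapₗ_eq, Functor.map_add]
        rfl
      map_smul' := fun c g => RefX.sect_ext fun y => LinearMap.ext fun v => by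
        obtain ⟨U, hy, m, rfl⟩ := TopCat.Presheaf.exists_germ_eq E.presheaf v
        rw [RefHull.ofHom_apply, RefHull.stalkMapₗ_germ, RingHom.id_apply]
        show _ = (X.presheaf.germ ⊤ y.1 trivial ((X.presheaf.map (homOfLE le_top).op)
          (Coh.toGlobal (X ↘ Spec (CommRingCat.of k)) c))) •
            RefHull.stalkMapₗ (g : E ⟶ E) y.1 (E.presheaf.germ U y.1 hy m)
        rw [RefHull.stalkMapₗ_germ, TopCat.Presheaf.germ_res_apply,
          ← X.presheaf.germ_res_apply (homOfLE (le_top : U ≤ ⊤)) y.1 hy, ← QCoh.germ_smul']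
        refine (congrArg (fun z : E ⟶ E => E.presheaf.germ U y.1 hy (z.app U m)) (Algebra.smul_def c g)).trans ?_
        rfl }
  haveI : Module.Finite k (End E) := Module.Finite.of_injective L fun g g' h =>
    sub_eq_zero.1 (CurveHom.eq_zero_of_stalk (g - g' : E ⟶ E) fun x v => by
      have h1 := LinearMap.congr_fun
        (congrArg (fun z : Γ(RefHull.homSh E E, ⊤) => z.1 ⟨x, trivial⟩) h) v
      rw [CurveHom.stalkMapₗ_eq, Functor.map_sub]
      exact sub_eq_zero.2 h1)
  exact IsIntegral.of_finite k f

omit [IsAlgClosed k] [IsProper (X ↘ Spec (CommRingCat.of k))] in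
theorem commutes_sub_scalar {f : res φ M ⟶ res φ M} (hf : Commutes φ f)
    (hcen : ∀ (U : (Opens X)ᵒᵖ) (s : X.ringCatSheaf.obj.obj U) (a : A.obj.obj U),
      φ.hom.app U s * a = a * φ.hom.app U s) (c : Γ(X, ⊤)) :
    Commutes φ (f - CurveEnd.smulMod (res φ M) c) := fun U a m => by
  show appA φ f U (a • m) - φ.hom.app U
      ((X.presheaf.map (homOfLE (le_top (a := U.unop))).op) c) • (a • m) =
    a • (appA φ f U m - φ.hom.app U
      ((X.presheaf.map (homOfLE (le_top (a := U.unop))).op) c) • m)
  rw [hf U a m, smul_sub, smul_smul, smul_smul, hcen]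

/-- Such a module is simple. -/
theorem exists_eq_scalar (hcen : ∀ (U : (Opens X)ᵒᵖ) (s : X.ringCatSheaf.obj.obj U) (a : A.obj.obj U),
      φ.hom.app U s * a = a * φ.hom.app U s)
    (hMc : Coh.IsCoh (res φ M)) (hMt : TorSh.IsTorsionFree (res φ M))
    (hM : IsSimpleModule (TopCat.Presheaf.stalk (C := RingCat.{u}) (X := X.carrier) A.obj (genericPoint X) :)
      (TopCat.Presheaf.stalk (C := Ab.{u}) (X := X.carrier) M.val.presheaf (genericPoint X) :))
    (ψ : M ⟶ M) :
    ∃ c : k, (SheafOfModules.restrictScalars φ).map ψ =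
      CurveEnd.smulMod (res φ M) (Coh.toGlobal (X ↘ Spec (CommRingCat.of k)) c) := by
  let E := res φ M
  letI := CurveEnd.kAlgebra (k := k) E
  let f₀ : E ⟶ E := (SheafOfModules.restrictScalars φ).map ψ
  let f : End E := f₀
  have hf : Commutes φ f₀ := commutes_map φ ψ
  obtain ⟨p, hp, hpf⟩ := isIntegral_end k hMc f
  by_contra hne
  push Not at hne
  have hroot : ∀ c : k, f₀ - CurveEnd.smulMod E (Coh.toGlobal (X ↘ Spec (CommRingCat.of k)) c) ≠ 0 :=
    fun c h => hne c (sub_eq_zero.1 h)
  let J : X.Modules → _ := fun _ => (DerSch.stalkFunctor X (genericPoint X))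
  have key : ∀ s : Multiset k, ∀ g : End E,
      g = Polynomial.aeval f ((s.map fun c => Polynomial.X - Polynomial.C c).prod) →
      Function.Injective ((J E).map (g : E ⟶ E)) := by
    intro s
    induction s using Multiset.induction_on with
    | empty =>
      intro g hg
      simp only [Multiset.map_zero, Multiset.prod_zero, map_one] at hg
      subst hg
      intro a b hab
      rwa [show ((1 : End E) : E ⟶ E) = 𝟙 E from rfl, CategoryTheory.Functor.map_id] at hab
    | cons c s ih =>
      intro g hg
      rw [Multiset.map_cons, Multiset.prod_cons, map_mul, map_sub, Polynomial.aeval_X, Polynomial.aeval_C] at hg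
      subst hg
      have h1 := generic_injective φ (commutes_sub_scalar φ hf hcen
        (Coh.toGlobal (X ↘ Spec (CommRingCat.of k)) c)) hMc.1 hMt hM (hroot c)
      rw [End.mul_def, Functor.map_comp]
      exact h1.comp (ih _ rfl)
  have hsplit := (IsAlgClosed.splits p).eq_prod_roots_of_monic hp
  have h2 := key p.roots 0 (by rw [← hsplit]; exact hpf.symm)
  haveI := hM.nontrivial
  obtain ⟨v, hv⟩ := exists_ne (0 : (TopCat.Presheaf.stalk (C := Ab.{u}) (X := X.carrier) M.val.presheaf (genericPoint X) :))
  refine hv (h2 ?_)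
  rw [show ((0 : End E) : E ⟶ E) = 0 from rfl, Functor.map_zero]
  rfl

end Groth.Agent.OrdSurf
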